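import Cfsg.Agent.PSUThree.Upper

/-!
Element orders of the three-dimensional unitary groups: the examples.
-/

set_option autoImplicit false

namespace Cfsg.Agent.PSUThree

open Matrix Cfsg.Agent.Classical Cfsg.Agent.Classical.Herm Module

variable {F : Type*} [Field F] [Fintype F] {q : ℕ}

/-- Isometries of determinant one of a three-dimensional Hermitian space give elements of `SU₃`. -/
theorem exists_of_isometry (hF : Fintype.card F = q ^ 2) {σ : F →+* F} (hσq : ∀ x, σ x = x ^ q)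
    {V : Type*} [AddCommGroup V] [Module F V] [FiniteDimensional F V] (hV : finrank F V = 3)
    {B : V →ₛₗ[σ] V →ₗ[F] F} (hB : IsHerm B) (f : V →ₗ[F] V) (hf : ∀ x y, B (f x) (f y) = B x y)
    (hdet : LinearMap.det f = 1) :
    ∃ g : ↥(Cfsg.SU 3 F q), ∀ (j : ℕ) (c : F),
      mat g ^ j = Matrix.scalar (Fin 3) c ↔ f ^ j = c • (1 : Module.End F V) := by
  classical
  obtain ⟨b₀, hb₀⟩ := exists_orthonormal hB
  set b := b₀.reindex (finCongr hV) with hb
  have hON : ∀ i j, B (b i) (b j) = if i = j then 1 else 0 := fun i j => by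
    simp only [hb, Basis.reindex_apply]
    rw [hb₀]
    simp
  have hrepr : ∀ x y, B x y = hermB 3 σ (b.repr x) (b.repr y) := by
    intro x y
    conv_lhs => rw [← b.sum_repr x, ← b.sum_repr y]
    simp only [map_sum, LinearMap.sum_apply, LinearMap.map_smulₛₗ, LinearMap.smul_apply, hON, hermB_apply,
      smul_eq_mul, RingHom.id_apply, mul_ite, mul_one, mul_zero, Finset.sum_ite_eq', Finset.mem_univ, if_true]
    exact Finset.sum_congr rfl fun i _ => mul_comm _ _
  set M := LinearMap.toMatrix b b f with hM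
  have hdetM : M.det = 1 := by rw [hM, LinearMap.det_toMatrix, hdet]
  have hMv : ∀ x, M *ᵥ b.repr x = b.repr (f x) := fun x => LinearMap.toMatrix_mulVec_repr b b f x
  have hpres : ∀ u v, hermB 3 σ (M *ᵥ u) (M *ᵥ v) = hermB 3 σ u v := by
    intro u v
    have hu : u = ⇑(b.repr (b.equivFun.symm u)) := by rw [← b.equivFun_apply, LinearEquiv.apply_symm_apply]
    have hv : v = ⇑(b.repr (b.equivFun.symm v)) := by rw [← b.equivFun_apply, LinearEquiv.apply_symm_apply]
    rw [hu, hv, hMv, hMv, ← hrepr, ← hrepr, hf]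
  refine ⟨⟨⟨M, hdetM⟩, (mem_SU_iff hσq _).2 hpres⟩, fun j c => ?_⟩
  show LinearMap.toMatrixAlgEquiv b f ^ j = Matrix.scalar (Fin 3) c ↔ _
  rw [← map_pow, show Matrix.scalar (Fin 3) c = LinearMap.toMatrixAlgEquiv b (c • (1 : Module.End F V)) by
    rw [map_smul, map_one, Matrix.scalar_apply, Matrix.smul_one_eq_diagonal]]
  exact (LinearMap.toMatrixAlgEquiv b).injective.eq_iff

/-- An order criterion. -/
theorem orderOf_eq_of {hF : Fintype.card F = q ^ 2} (g : ↥(Cfsg.SU 3 F q)) (N : ℕ)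
    (h1 : ∃ c, mat g ^ N = Matrix.scalar (Fin 3) c)
    (h2 : ∀ j c, mat g ^ j = Matrix.scalar (Fin 3) c → N ∣ j) :
    orderOf (QuotientGroup.mk' (Subgroup.center ↥(Cfsg.SU 3 F q)) g) = N := by
  refine Nat.dvd_antisymm ?_ ?_
  · rw [orderOf_dvd_iff_pow_eq_one, ← map_pow, mk_eq_one_iff hF, mat_pow]
    exact h1
  · have := pow_orderOf_eq_one (QuotientGroup.mk' (Subgroup.center ↥(Cfsg.SU 3 F q)) g)
    rw [← map_pow, mk_eq_one_iff hF, mat_pow] at this
    obtain ⟨c, hc⟩ := this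
    exact h2 _ c hc

omit [Field F] [Fintype F] in
theorem two_le_of_card {F : Type*} [Field F] [Fintype F] (hF : Fintype.card F = q ^ 2) : 2 ≤ q := by
  by_contra h
  have : q ^ 2 ≤ 1 := Nat.pow_le_one_iff two_ne_zero |>.2 (by omega)
  have := Fintype.one_lt_card (α := F)
  omega

omit [Fintype F] in
theorem sq_sub_one (q : ℕ) : q ^ 2 - 1 = (q + 1) * (q - 1) := by simpa using Nat.sq_sub_sq q 1

/-- An element of `Fˣ` of any order dividing `q² − 1`. -/
theorem exists_order (hF : Fintype.card F = q ^ 2) {N : ℕ} (hN : N ∣ q ^ 2 - 1) : ∃ a : Fˣ, orderOf a = N := by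
  classical
  obtain ⟨g, hg⟩ := IsCyclic.exists_generator (α := Fˣ)
  have ho : orderOf g = q ^ 2 - 1 := by
    rw [orderOf_eq_card_of_forall_mem_zpowers hg, Nat.card_eq_fintype_card, Fintype.card_units, hF]
  obtain ⟨r, hr⟩ := hN
  refine ⟨g ^ r, ?_⟩
  rw [orderOf_pow' g, ho]
  · rw [hr, Nat.gcd_mul_left_left]
    exact Nat.mul_div_cancel _ (Nat.pos_of_ne_zero fun h => by
      have := two_le_of_card hF
      have : 2 ^ 2 ≤ q ^ 2 := Nat.pow_le_pow_left this 2
      simp [h] at hr; omega)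
  · intro h
    have := two_le_of_card hF
    have : 2 ^ 2 ≤ q ^ 2 := Nat.pow_le_pow_left this 2
    simp [h] at hr; omega

/-- The order `q + 1`. -/
theorem exists_q_add_one (hF : Fintype.card F = q ^ 2) : ∃ x : Cfsg.PSU 3 F q, orderOf x = q + 1 := by
  obtain ⟨σ, hσq, -, -, -⟩ := exists_powHom hF
  obtain ⟨e, he⟩ := exists_order hF (N := q + 1) ⟨q - 1, sq_sub_one q⟩
  set d : Fin 3 → F := ![(e : F), ((e⁻¹ : Fˣ) : F), 1] with hd
  have he1 : e ^ (q + 1) = 1 := by rw [← he, pow_orderOf_eq_one]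
  have hed : ∀ i, σ (d i) * d i = 1 := by
    intro i
    rw [hσq, ← pow_succ]
    fin_cases i <;> simp [hd, ← Units.val_pow_eq_pow_val, he1]
  have hdet : (Matrix.diagonal d).det = 1 := by
    rw [Matrix.det_diagonal, Fin.prod_univ_three]
    simp [hd]
  set D : Matrix.SpecialLinearGroup (Fin 3) F := ⟨Matrix.diagonal d, hdet⟩
  have hpres : D ∈ Cfsg.SU 3 F q := by
    refine (mem_SU_iff hσq D).2 fun u v => ?_
    show hermB 3 σ (Matrix.diagonal d *ᵥ u) (Matrix.diagonal d *ᵥ v) = _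
    simp only [hermB_apply, Matrix.mulVec_diagonal, map_mul]
    exact Finset.sum_congr rfl fun i _ => by linear_combination σ (u i) * v i * hed i
  refine ⟨_, orderOf_eq_of (hF := hF) ⟨_, hpres⟩ (q + 1) ⟨1, ?_⟩ ?_⟩
  · show Matrix.diagonal d ^ (q + 1) = _
    rw [Matrix.diagonal_pow, map_one, ← Matrix.diagonal_one]
    congr 1
    funext i
    fin_cases i <;> simp [hd, ← Units.val_pow_eq_pow_val, he1]
  · intro j c h
    change Matrix.diagonal d ^ j = _ at h
    rw [Matrix.diagonal_pow, Matrix.scalar_apply] at h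
    have h0 := congrFun (congrFun h 0) 0
    have h2 := congrFun (congrFun h 2) 2
    simp [hd] at h0 h2
    rw [← he, orderOf_dvd_iff_pow_eq_one]
    exact Units.ext (by rw [Units.val_pow_eq_pow_val, Units.val_one, h0, h2])

/-- The antidiagonal Hermitian form. -/
def antiB (σ : F →+* F) : (Fin 3 → F) →ₛₗ[σ] (Fin 3 → F) →ₗ[F] F :=
  LinearMap.mk₂'ₛₗ σ (RingHom.id F) (fun u v => σ (u 0) * v 2 + σ (u 1) * v 1 + σ (u 2) * v 0)
    (fun u u' v => by simp; ring) (fun c u v => by simp; ring)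
    (fun u v v' => by simp; ring) (fun c u v => by simp; ring)

omit [Fintype F] in
theorem antiB_isHerm {σ : F →+* F} (hσ : IsInvol σ) : IsHerm (antiB σ) :=
  { toIsInvol := hσ
    symm := fun u v => by simp [antiB, hσ.invol]; ring
    nondeg := fun u hu => by
      funext i
      have h0 := hu (Pi.single 0 1)
      have h1 := hu (Pi.single 1 1)
      have h2 := hu (Pi.single 2 1)
      simp [antiB] at h0 h1 h2
      fin_cases i <;> simp [h0, h1, h2] }

/-- The kernel of the cube on the relevant powers. -/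
theorem common_root {d : ℕ} (hd : d ∣ 3) (hd' : d ∣ q + 1) {z : F} (hz : z ^ d = 1) :
    z ^ q = z⁻¹ ∧ (z⁻¹ * z⁻¹) = z := by
  obtain ⟨h3, h1⟩ := pow_q_cube hd hd' hz
  have hz0 : z ≠ 0 := fun h => by simp [h] at h1
  refine ⟨eq_inv_of_mul_eq_one_left (by rw [← pow_succ, h1]), ?_⟩
  rw [pow_three] at h3
  field_simp
  linear_combination -h3

theorem gcd_three (q : ℕ) (hq : 2 ≤ q) :
    Nat.gcd (q - 2) (q ^ 2 - 1) ∣ Nat.gcd 3 (q + 1) ∧ Nat.gcd (q ^ 2 - q + 1) (q ^ 2 - 1) ∣ Nat.gcd 3 (q + 1) := by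
  obtain ⟨r, rfl⟩ : ∃ r, q = r + 2 := ⟨q - 2, by omega⟩
  rw [Nat.add_sub_cancel]
  have e1 : (r + 2) ^ 2 - 1 = r * (r + 4) + 3 := by rw [show (r + 2) ^ 2 = r * (r + 4) + 3 + 1 by ring, Nat.add_sub_cancel]
  have e2 : (r + 2) ^ 2 - (r + 2) + 1 = r * (r + 3) + 3 := by
    rw [show (r + 2) ^ 2 = r * (r + 3) + 2 + (r + 2) by ring, Nat.add_sub_cancel]
  rw [e1, e2]
  have key : ∀ n, n ∣ r → n ∣ r * (r + 4) + 3 → n ∣ Nat.gcd 3 (r + 2 + 1) := by
    intro n hn h
    have h3 : n ∣ 3 := (Nat.dvd_add_right (Dvd.dvd.mul_right hn _)).1 h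
    exact Nat.dvd_gcd h3 (by rw [show r + 2 + 1 = r + 3 by ring]; exact dvd_add hn h3)
  refine ⟨key _ (Nat.gcd_dvd_left _ _) (Nat.gcd_dvd_right _ _), key _ ?_ (Nat.gcd_dvd_right _ _)⟩
  have h1 := Nat.gcd_dvd_left (r * (r + 3) + 3) (r * (r + 4) + 3)
  have h2 := Nat.gcd_dvd_right (r * (r + 3) + 3) (r * (r + 4) + 3)
  rw [show r * (r + 4) + 3 = (r * (r + 3) + 3) + r by ring] at h2
  exact (Nat.dvd_add_right h1).1 (by rw [show r * (r + 4) + 3 = (r * (r + 3) + 3) + r by ring] at *; exact h2)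

theorem dvd_of_gcd {N d e j : ℕ} (hd : d ∣ N) (hd0 : 0 < d) (he : Nat.gcd e N ∣ d) (h : N ∣ e * j) : N / d ∣ j := by
  have h1 : N ∣ Nat.gcd (e * j) (N * j) := Nat.dvd_gcd h (dvd_mul_right _ _)
  rw [Nat.gcd_mul_right] at h1
  obtain ⟨r, hr⟩ := hd
  rw [hr, Nat.mul_div_cancel_left _ hd0]
  have h2 := h1.trans (Nat.mul_dvd_mul_right he j)
  rw [hr] at h2
  exact Nat.dvd_of_mul_dvd_mul_left hd0 h2

/-- The order `(q² − 1)/d`. -/
theorem exists_torus (hF : Fintype.card F = q ^ 2) :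
    ∃ x : Cfsg.PSU 3 F q, orderOf x = (q ^ 2 - 1) / Nat.gcd 3 (q + 1) := by
  obtain ⟨σ, hσq, hσ, -, -⟩ := exists_powHom hF
  have hq := two_le_of_card hF
  set d := Nat.gcd 3 (q + 1) with hd
  have hd3 : d ∣ 3 := Nat.gcd_dvd_left _ _
  have hdq : d ∣ q + 1 := Nat.gcd_dvd_right _ _
  have hd0 : 0 < d := Nat.gcd_pos_of_pos_left _ (by norm_num)
  have hdm : d ∣ q ^ 2 - 1 := by rw [sq_sub_one]; exact dvd_mul_of_dvd_left hdq _
  obtain ⟨a, ha⟩ := exists_order hF (N := q ^ 2 - 1) dvd_rfl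
  have haF : (a : F) ≠ 0 := a.ne_zero
  set b : F := (a : F) ^ (q - 1) with hb
  set c : F := ((a : F) ^ q)⁻¹ with hc
  have hqq : (a : F) ^ (q ^ 2 - 1) = 1 := by
    rw [← ha, ← Units.val_pow_eq_pow_val, pow_orderOf_eq_one, Units.val_one]
  have hbn : b ^ (q + 1) = 1 := by rw [hb, ← pow_mul, mul_comm, ← sq_sub_one, hqq]
  have haq : (a : F) * b * c = 1 := by
    rw [hb, hc, ← pow_succ', Nat.sub_add_cancel (by omega), mul_inv_cancel₀ (pow_ne_zero _ haF)]
  let f : (Fin 3 → F) →ₗ[F] (Fin 3 → F) := Matrix.toLin' (Matrix.diagonal ![(a : F), b, c])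
  have hfa : ∀ x, f x = ![(a : F) * x 0, b * x 1, c * x 2] := by
    intro x
    rw [Matrix.toLin'_apply]
    funext i
    rw [Matrix.mulVec_diagonal]
    fin_cases i <;> simp
  have hac : σ (a : F) * c = 1 := by rw [hσq, hc, mul_inv_cancel₀ (pow_ne_zero _ haF)]
  have hca : σ c * (a : F) = 1 := by
    have := congrArg σ hac
    rw [map_mul, hσ.invol, map_one] at this
    rwa [mul_comm]
  have hbb : σ b * b = 1 := by rw [hσq, ← pow_succ, hbn]
  obtain ⟨g, hg⟩ := exists_of_isometry hF hσq (Module.finrank_fin_fun F) (antiB_isHerm hσ) f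
    (fun x y => by
      simp only [hfa, antiB, LinearMap.mk₂'ₛₗ_apply, Matrix.cons_val_zero, Matrix.cons_val_one, Matrix.cons_val,
        map_mul]
      linear_combination σ (x 0) * y 2 * hac + σ (x 1) * y 1 * hbb + σ (x 2) * y 0 * hca)
    (by rw [LinearMap.det_toLin', Matrix.det_diagonal, Fin.prod_univ_three]; simpa using haq)
  have hpow : ∀ (j : ℕ) (z : F), f ^ j = z • (1 : Module.End F (Fin 3 → F)) ↔
      (a : F) ^ j = z ∧ b ^ j = z ∧ c ^ j = z := by
    intro j z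
    rw [show f ^ j = Matrix.toLin' (Matrix.diagonal (![(a : F), b, c] ^ j)) by
      rw [← Matrix.diagonal_pow]
      exact (map_pow Matrix.toLinAlgEquiv' (Matrix.diagonal ![(a : F), b, c]) j).symm]
    rw [show z • (1 : Module.End F (Fin 3 → F)) = Matrix.toLin' (Matrix.diagonal fun _ => z) by
      rw [← Matrix.smul_one_eq_diagonal, map_smul, Matrix.toLin'_one]; rfl]
    rw [Matrix.toLin'.injective.eq_iff, Matrix.diagonal_eq_diagonal_iff]
    simp [Fin.forall_fin_succ]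
  refine ⟨_, orderOf_eq_of (hF := hF) g _ ⟨(a : F) ^ ((q ^ 2 - 1) / d), (hg _ _).2 ((hpow _ _).2 ⟨rfl, ?_⟩)⟩ ?_⟩
  · set k := (q ^ 2 - 1) / d
    have hz : ((a : F) ^ k) ^ d = 1 := by rw [← pow_mul, Nat.div_mul_cancel hdm, hqq]
    obtain ⟨h1, h2⟩ := common_root hd3 hdq hz
    have hc2 : c ^ k = (a : F) ^ k := by rw [hc, inv_pow, ← pow_mul, mul_comm q k, pow_mul, h1, inv_inv]
    refine ⟨?_, hc2⟩
    have h3 := congrArg (fun x => x ^ k) haq
    simp only [mul_pow, one_pow, hc2] at h3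
    have hk0 : (a : F) ^ k ≠ 0 := pow_ne_zero _ haF
    conv_rhs => rw [← h2]
    field_simp
    linear_combination h3
  · intro j z h
    obtain ⟨h0, h1, -⟩ := (hpow j z).1 ((hg j z).1 h)
    refine dvd_of_gcd hdm hd0 (gcd_three q hq).1 ?_
    rw [← ha, orderOf_dvd_iff_pow_eq_one]
    refine Units.ext ?_
    rw [Units.val_pow_eq_pow_val, Units.val_one]
    rw [hb, ← h0, ← pow_mul, show q - 1 = q - 2 + 1 by omega, add_mul, one_mul, pow_add] at h1
    exact mul_right_cancel₀ (pow_ne_zero j haF) (by rw [h1, one_mul])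

/-- The order `p(q + 1)/d`. -/
theorem exists_mixed (p : ℕ) [Fact p.Prime] [CharP F p] (hp : p ≠ 2) (hF : Fintype.card F = q ^ 2) :
    ∃ x : Cfsg.PSU 3 F q, orderOf x = p * (q + 1) / Nat.gcd 3 (q + 1) := by
  obtain ⟨σ, hσq, hσ, -, -⟩ := exists_powHom hF
  have hq := two_le_of_card hF
  set d := Nat.gcd 3 (q + 1) with hd
  have hd3 : d ∣ 3 := Nat.gcd_dvd_left _ _
  have hdq : d ∣ q + 1 := Nat.gcd_dvd_right _ _
  have hd0 : 0 < d := Nat.gcd_pos_of_pos_left _ (by norm_num)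
  obtain ⟨a, ha⟩ := exists_order hF (N := q + 1) ⟨q - 1, sq_sub_one q⟩
  obtain ⟨t, ht0, ht⟩ := exists_skew hσ
  set A : F := (a : F) with hA
  have haF : A ≠ 0 := a.ne_zero
  set b : F := (A * A)⁻¹ with hb
  have haa : σ A * A = 1 := by
    rw [hσq, ← pow_succ, hA, ← Units.val_pow_eq_pow_val, ← ha, pow_orderOf_eq_one, Units.val_one]
  have hbb : σ b * b = 1 := by
    rw [hb, map_inv₀, map_mul, ← mul_inv, inv_eq_one]
    linear_combination (σ A * A + 1) * haa
  let Mx : Matrix (Fin 3) (Fin 3) F := !![A, 0, A * t; 0, b, 0; 0, 0, A]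
  let f : (Fin 3 → F) →ₗ[F] (Fin 3 → F) := Matrix.toLin' Mx
  have hfa : ∀ x, f x = ![A * x 0 + A * t * x 2, b * x 1, A * x 2] := by
    intro x
    rw [Matrix.toLin'_apply]
    funext i
    fin_cases i <;> simp [Mx, Matrix.mulVec, dotProduct, Fin.sum_univ_three]
  obtain ⟨g, hg⟩ := exists_of_isometry hF hσq (Module.finrank_fin_fun F) (antiB_isHerm hσ) f
    (fun x y => by
      simp only [hfa, antiB, LinearMap.mk₂'ₛₗ_apply, Matrix.cons_val_zero, Matrix.cons_val_one, Matrix.cons_val,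
        map_mul, map_add, ht]
      linear_combination (σ (x 0) * y 2 + σ (x 2) * y 0) * haa + σ (x 1) * y 1 * hbb)
    (by rw [LinearMap.det_toLin', Matrix.det_fin_three]; simp [Mx, hb]; field_simp)
  have hMpow : ∀ j : ℕ, Mx ^ j = !![A ^ j, 0, (j : F) * A ^ j * t; 0, b ^ j, 0; 0, 0, A ^ j] := by
    intro j
    induction j with
    | zero => ext r s; fin_cases r <;> fin_cases s <;> simp
    | succ j ih =>
      rw [pow_succ, ih]
      ext r s
      fin_cases r <;> fin_cases s <;> simp [Mx, Matrix.mul_apply, Fin.sum_univ_three, pow_succ] <;> ring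
  have hpow : ∀ (j : ℕ) (z : F), f ^ j = z • (1 : Module.End F (Fin 3 → F)) ↔
      A ^ j = z ∧ b ^ j = z ∧ (j : F) = 0 := by
    intro j z
    rw [show f ^ j = Matrix.toLin' (Mx ^ j) from (map_pow Matrix.toLinAlgEquiv' Mx j).symm]
    rw [show z • (1 : Module.End F (Fin 3 → F)) = Matrix.toLin' (Matrix.diagonal fun _ => z) by
      rw [← Matrix.smul_one_eq_diagonal, map_smul, Matrix.toLin'_one]; rfl]
    rw [Matrix.toLin'.injective.eq_iff, hMpow]
    constructor
    · intro h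
      have h0 := congrFun (congrFun h 0) 0
      have h1 := congrFun (congrFun h 1) 1
      have h2 := congrFun (congrFun h 0) 2
      simp at h0 h1 h2
      refine ⟨h0, h1, ?_⟩
      rcases h2 with (h2 | h2) | h2
      · exact h2
      · exact absurd h2.1 haF
      · exact absurd h2 ht0
    · rintro ⟨h0, h1, h2⟩
      ext r s
      fin_cases r <;> fin_cases s <;> simp [h0, h1, h2]
  set k := (q + 1) / d
  rw [Nat.mul_div_assoc p hdq]
  refine ⟨_, orderOf_eq_of (hF := hF) g _ ⟨A ^ (p * k), (hg _ _).2 ((hpow _ _).2 ⟨rfl, ?_, ?_⟩)⟩ ?_⟩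
  · have hz : (A ^ (p * k)) ^ d = 1 := by
      rw [← pow_mul, mul_assoc, Nat.div_mul_cancel hdq, mul_comm, pow_mul, hA, ← Units.val_pow_eq_pow_val, ← ha,
        pow_orderOf_eq_one, Units.val_one, one_pow]
    obtain ⟨-, h2⟩ := common_root hd3 hdq hz
    rw [hb, inv_pow, mul_pow, mul_inv, h2]
  · rw [Nat.cast_mul, CharP.cast_eq_zero, zero_mul]
  · intro j z h
    obtain ⟨h0, h1, h2⟩ := (hpow j z).1 ((hg j z).1 h)
    have hpj : p ∣ j := (CharP.cast_eq_zero_iff F p j).1 h2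
    have hkj : k ∣ j := by
      refine dvd_of_gcd hdq hd0 (e := 3) dvd_rfl ?_
      rw [← ha, orderOf_dvd_iff_pow_eq_one]
      refine Units.ext ?_
      rw [Units.val_pow_eq_pow_val, Units.val_one, ← hA]
      rw [hb, inv_pow, mul_pow, ← h0, inv_eq_one_div, div_eq_iff (mul_ne_zero (pow_ne_zero _ haF) (pow_ne_zero _ haF))]
        at h1
      rw [mul_comm 3 j, pow_mul, pow_three]
      exact h1.symm
    refine Nat.Coprime.mul_dvd_of_dvd_of_dvd ?_ hpj hkj
    refine Nat.Coprime.coprime_dvd_right (Nat.div_dvd_of_dvd hdq) ?_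
    obtain ⟨e, hpr, hcard⟩ := FiniteField.card F p
    refine (Nat.Prime.coprime_iff_not_dvd hpr).2 fun hdiv => ?_
    have hpq : p ∣ q := by
      refine hpr.dvd_of_dvd_pow (n := 2) ?_
      rw [← hF, hcard]
      exact dvd_pow_self p e.ne_zero
    have := (Nat.dvd_add_right hpq).1 hdiv
    exact hpr.one_lt.ne' (Nat.dvd_one.1 this)

/-- The order `(q² − q + 1)/d`. -/
theorem exists_singer (hF : Fintype.card F = q ^ 2) :
    ∃ x : Cfsg.PSU 3 F q, orderOf x = (q ^ 2 - q + 1) / Nat.gcd 3 (q + 1) := by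
  classical
  obtain ⟨σ, hσq, hσ, -, -⟩ := exists_powHom hF
  have hq := two_le_of_card hF
  set d := Nat.gcd 3 (q + 1) with hd
  have hd3 : d ∣ 3 := Nat.gcd_dvd_left _ _
  have hdq : d ∣ q + 1 := Nat.gcd_dvd_right _ _
  have hd0 : 0 < d := Nat.gcd_pos_of_pos_left _ (by norm_num)
  obtain ⟨p, hp⟩ := CharP.exists F
  obtain ⟨e, hpr, hcard⟩ := FiniteField.card F p
  haveI : Fact p.Prime := ⟨hpr⟩
  obtain ⟨i, -, hi⟩ := (Nat.dvd_prime_pow hpr).1 (show q ∣ p ^ (e : ℕ) from ⟨q, by rw [← hcard, hF, sq]⟩)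
  let K := FiniteField.Extension F p 3
  haveI : CharP K p := charP_of_injective_algebraMap (algebraMap F K).injective p
  haveI := Fintype.ofFinite K
  have hK : Fintype.card K = q ^ 6 := by
    rw [← Nat.card_eq_fintype_card, FiniteField.natCard_extension, Nat.card_eq_fintype_card, hF, ← pow_mul]
  have hfr : finrank F K = 3 := FiniteField.finrank_extension F p 3
  set ι := algebraMap F K
  set φ := iterateFrobenius K p (i * 3)
  have hφ : ∀ x : K, φ x = x ^ (q ^ 3) := fun x => by rw [iterateFrobenius_def, hi, ← pow_mul]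
  have hφι : ∀ c : F, φ (ι c) = ι (σ c) := fun c => by
    rw [hφ, hσq, ← map_pow, show q ^ 3 = q ^ 2 * q by ring, pow_mul, ← hF, FiniteField.pow_card]
  have hφφ : ∀ x, φ (φ x) = x := fun x => by
    rw [hφ, hφ, ← pow_mul, ← pow_add, ← hK, FiniteField.pow_card]
  have htr : ∀ x, ι (Algebra.trace F K x) = x + x ^ (q ^ 2) + x ^ ((q ^ 2) ^ 2) := fun x => by
    rw [FiniteField.algebraMap_trace_eq_sum_pow, hfr, Nat.card_eq_fintype_card, hF]
    simp [Finset.sum_range_succ]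
  let B : K →ₛₗ[σ] K →ₗ[F] F := LinearMap.mk₂'ₛₗ σ (RingHom.id F) (fun x y => Algebra.trace F K (φ x * y))
    (fun x x' y => by rw [map_add, add_mul, map_add])
    (fun c x y => by rw [Algebra.smul_def, map_mul φ, hφι, mul_assoc, ← Algebra.smul_def, map_smul])
    (fun x y y' => by rw [mul_add, map_add]) (fun c x y => by rw [mul_smul_comm, map_smul]; rfl)
  have hB : IsHerm B :=
    { toIsInvol := hσ
      symm := fun x y => by
        refine ι.injective ?_
        show ι (σ (Algebra.trace F K (φ x * y))) = ι (Algebra.trace F K (φ y * x))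
        rw [← hφι, htr, htr, map_add, map_add, map_pow, map_pow, map_mul, hφφ, mul_comm x (φ y)]
      nondeg := fun x hx => by
        refine (map_eq_zero φ).1 ((traceForm_nondegenerate F K).1 (φ x) fun y => ?_)
        rw [Algebra.traceForm_apply]
        exact hx y }
  have hdiv : q ^ 2 - q + 1 ∣ q ^ 6 - 1 := by
    refine ⟨(q + 1) * (q ^ 3 - 1), ?_⟩
    have h1 : q ≤ q ^ 2 := Nat.le_self_pow two_ne_zero q
    have h2 : 1 ≤ q ^ 3 := Nat.one_le_pow _ _ (by omega)
    have h3 : 1 ≤ q ^ 6 := Nat.one_le_pow _ _ (by omega)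
    zify [h1, h2, h3]
    ring
  obtain ⟨gK, hgK⟩ := IsCyclic.exists_generator (α := Kˣ)
  obtain ⟨α, hα⟩ : ∃ α : Kˣ, orderOf α = q ^ 2 - q + 1 := by
    obtain ⟨r, hr⟩ := hdiv
    have ho : orderOf gK = q ^ 6 - 1 := by
      rw [orderOf_eq_card_of_forall_mem_zpowers hgK, Nat.card_eq_fintype_card, Fintype.card_units, hK]
    have h6 : 1 < q ^ 6 := Nat.one_lt_pow (by norm_num) (by omega)
    refine ⟨gK ^ r, ?_⟩
    have hr0 : r ≠ 0 := fun h => by simp [h] at hr; omega
    rw [orderOf_pow' gK hr0, ho, hr, Nat.gcd_mul_left_left]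
    exact Nat.mul_div_cancel _ (Nat.pos_of_ne_zero hr0)
  set A : K := (α : K) with hA
  have hA0 : A ≠ 0 := α.ne_zero
  have hAN : A ^ (q ^ 2 - q + 1) = 1 := by
    rw [hA, ← hα, ← Units.val_pow_eq_pow_val, pow_orderOf_eq_one, Units.val_one]
  have hA3 : φ A * A = 1 := by
    rw [hφ, ← pow_succ, show q ^ 3 + 1 = (q ^ 2 - q + 1) * (q + 1) by
      zify [Nat.le_self_pow two_ne_zero q]; ring, pow_mul, hAN, one_pow]
  have hdet : LinearMap.det (LinearMap.mulLeft F A) = 1 := by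
    rw [show LinearMap.mulLeft F A = Algebra.lmul F K A from rfl, ← Algebra.norm_apply]
    refine ι.injective ?_
    rw [FiniteField.algebraMap_norm_eq_pow_sum, hfr, Nat.card_eq_fintype_card, hF, map_one]
    rw [show ∑ i ∈ Finset.range 3, (q ^ 2) ^ i = (q ^ 2 - q + 1) * (q ^ 2 + q + 1) by
      simp [Finset.sum_range_succ]
      zify [Nat.le_self_pow two_ne_zero q]
      ring, pow_mul, hAN, one_pow]
  obtain ⟨g, hg⟩ := exists_of_isometry hF hσq hfr hB (LinearMap.mulLeft F A) (fun x y => by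
    show Algebra.trace F K (φ (A * x) * (A * y)) = Algebra.trace F K (φ x * y)
    congr 1
    rw [map_mul]
    linear_combination φ x * y * hA3) hdet
  have hpow : ∀ (j : ℕ) (z : F), LinearMap.mulLeft F A ^ j = z • (1 : Module.End F K) ↔ A ^ j = ι z := by
    intro j z
    rw [LinearMap.pow_mulLeft]
    constructor
    · intro h
      have := LinearMap.congr_fun h 1
      simpa [Algebra.smul_def] using this
    · intro h
      ext x
      simp [h, Algebra.smul_def, ι]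
  have hds : d ∣ q ^ 2 - q + 1 := by
    rw [show q ^ 2 - q + 1 = (q + 1) * (q - 2) + 3 by zify [Nat.le_self_pow two_ne_zero q, hq]; ring]
    exact dvd_add (dvd_mul_of_dvd_left hdq _) hd3
  set k := (q ^ 2 - q + 1) / d
  have hz : (A ^ k) ^ d = 1 := by rw [← pow_mul, Nat.div_mul_cancel hds, hAN]
  obtain ⟨w, hw⟩ : ∃ w : F, ι w = A ^ k := by
    refine mem_range_of_pow_card ?_
    rw [hF]
    exact pow_card_of_pow_succ (pow_q_cube hd3 hdq hz).2
  refine ⟨_, orderOf_eq_of (hF := hF) g k ⟨w, (hg _ _).2 ((hpow _ _).2 hw.symm)⟩ ?_⟩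
  intro j z h
  have hj := (hpow j z).1 ((hg j z).1 h)
  refine dvd_of_gcd hds hd0 (e := q ^ 2 - 1) ((Nat.gcd_comm _ _).symm ▸ (gcd_three q hq).2) ?_
  rw [← hα, orderOf_dvd_iff_pow_eq_one]
  refine Units.ext ?_
  rw [Units.val_pow_eq_pow_val, Units.val_one, ← hA, mul_comm, pow_mul, hj, ← map_pow]
  have hz0 : z ≠ 0 := fun h0 => pow_ne_zero j hA0 (by rw [hj, h0, map_zero])
  rw [← hF, FiniteField.pow_card_sub_one_eq_one z hz0, map_one]

end Cfsg.Agent.PSUThree
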