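import Cfsg.Agent.Classical.HermGroup

/-!
Element orders of the three-dimensional unitary groups: the upper bound, from the eigenvalues.
-/

set_option autoImplicit false

namespace Cfsg.Agent.PSUThree

open Polynomial Matrix Cfsg.Agent.Classical Cfsg.Agent.Classical.Herm

variable {F : Type*} [Field F] [Fintype F] {q : ℕ}

/-- The matrix of an element. -/
abbrev mat (g : ↥(Cfsg.SU 3 F q)) : Matrix (Fin 3) (Fin 3) F :=
  ((g : Matrix.SpecialLinearGroup (Fin 3) F) : Matrix (Fin 3) (Fin 3) F)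

theorem mat_pow (g : ↥(Cfsg.SU 3 F q)) (k : ℕ) : mat (g ^ k) = mat g ^ k := by
  simp [mat]

/-- The class of an element is trivial exactly when its matrix is scalar. -/
theorem mk_eq_one_iff (hF : Fintype.card F = q ^ 2) (g : ↥(Cfsg.SU 3 F q)) :
    QuotientGroup.mk' (Subgroup.center ↥(Cfsg.SU 3 F q)) g = 1 ↔ ∃ c : F, mat g = Matrix.scalar (Fin 3) c := by
  rw [QuotientGroup.mk'_apply, QuotientGroup.eq_one_iff]
  obtain ⟨σ, hσq, hσ, hq, -⟩ := exists_powHom hF
  constructor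
  · exact fun h => center_SU_scalar hσ hσq hq (by norm_num) h
  · rintro ⟨c, hc⟩
    refine Subgroup.mem_center_iff.2 fun h => Subtype.ext (Subtype.ext ?_)
    show mat h * mat g = mat g * mat h
    rw [hc]
    exact ((Matrix.scalar_commute c (fun r => Commute.all c r) (mat h)).eq).symm

theorem gram (hF : Fintype.card F = q ^ 2) (g : ↥(Cfsg.SU 3 F q)) {σ : F →+* F} (hσq : ∀ x, σ x = x ^ q) :
    ((mat g).map σ)ᵀ * mat g = 1 := by
  have h := (preserves_iff_cols (mat g)).1 ((mem_SU_iff hσq g.1).1 g.2)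
  ext i j
  have := h i j
  rw [hermB_apply] at this
  simpa [Matrix.mul_apply, Matrix.one_apply, Matrix.mulVec_single] using this

/-- The eigenvalues in an algebraic closure. -/
theorem eigen (hF : Fintype.card F = q ^ 2) (g : ↥(Cfsg.SU 3 F q)) :
    ∃ a b c : AlgebraicClosure F, ((mat g).charpoly.map (algebraMap F (AlgebraicClosure F))) =
        (X - C a) * (X - C b) * (X - C c) ∧ a * b * c = 1 ∧
      ∀ x, (x = a ∨ x = b ∨ x = c) → ∃ y, (y = a ∨ y = b ∨ y = c) ∧ x * y ^ q = 1 := by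
  classical
  obtain ⟨σ, hσq, -, -, -⟩ := exists_powHom hF
  obtain ⟨p, hp⟩ := CharP.exists F
  obtain ⟨k, hpr, hk⟩ := FiniteField.card F p
  have : Fact p.Prime := ⟨hpr⟩
  obtain ⟨i, -, hi⟩ := (Nat.dvd_prime_pow hpr).1 (show q ∣ p ^ (k : ℕ) from ⟨q, by rw [← hk, hF, sq]⟩)
  set K := AlgebraicClosure F
  haveI : CharP K p := charP_of_injective_algebraMap (algebraMap F K).injective p
  set ι := algebraMap F K
  set φ := iterateFrobenius K p i
  have hφ : ∀ x : K, φ x = x ^ q := fun x => by rw [iterateFrobenius_def, hi]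
  have hcomp : ι.comp σ = φ.comp ι := RingHom.ext fun x => by simp [hσq, hφ]
  set M := (mat g).map ι with hM
  have hdet : M.det = 1 := by
    rw [hM]
    have := RingHom.map_det ι (mat g)
    rw [RingHom.mapMatrix_apply] at this
    rw [← this]
    simp [mat]
  have hcp : (mat g).charpoly.map ι = M.charpoly := (Matrix.charpoly_map _ ι).symm
  have hs : M.charpoly.Splits := IsAlgClosed.splits _
  have hcard : Multiset.card M.charpoly.roots = 3 := by
    rw [← hs.natDegree_eq_card_roots, Matrix.charpoly_natDegree_eq_dim, Fintype.card_fin]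
  obtain ⟨a, b, c, habc⟩ := Multiset.card_eq_three.1 hcard
  refine ⟨a, b, c, ?_, ?_, ?_⟩
  · rw [hcp, hs.eq_prod_roots_of_monic (Matrix.charpoly_monic M), habc]
    simp [mul_assoc]
  · have := Matrix.det_eq_prod_roots_charpoly M
    rw [hdet, habc] at this
    simpa [mul_assoc] using this.symm
  · have hmem : ∀ x, x ∈ M.charpoly.roots ↔ x = a ∨ x = b ∨ x = c := fun x => by simp [habc]
    intro x hx
    rw [← hmem, Polynomial.mem_roots (Matrix.charpoly_monic M).ne_zero, IsRoot.def, Matrix.eval_charpoly] at hx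
    set N := (M.map φ)ᵀ with hN
    have hNM : N * M = 1 := by
      have h1 := congrArg (fun A : Matrix (Fin 3) (Fin 3) F => A.map ι) (gram hF g hσq)
      simp only [Matrix.map_mul, Matrix.map_one _ (map_zero ι) (map_one ι)] at h1
      rw [← h1, hN, hM, Matrix.transpose_map, Matrix.map_map, Matrix.map_map, ← RingHom.coe_comp, ← RingHom.coe_comp,
        hcomp]
    have hx0 : x ≠ 0 := by
      rintro rfl
      simp [Matrix.det_neg, hdet] at hx
    obtain ⟨y, hy⟩ := IsAlgClosed.exists_pow_nat_eq x⁻¹ (Nat.pos_of_ne_zero fun h : q = 0 => by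
      subst h; simp at hF)
    refine ⟨y, (hmem y).1 ?_, by rw [hy, mul_inv_cancel₀ hx0]⟩
    rw [Polynomial.mem_roots (Matrix.charpoly_monic M).ne_zero, IsRoot.def, Matrix.eval_charpoly]
    refine (map_eq_zero φ).1 ?_
    have e : φ.mapMatrix (Matrix.scalar (Fin 3) y - M) = Matrix.scalar (Fin 3) (φ y) - M.map φ := by
      rw [map_sub, RingHom.mapMatrix_apply, RingHom.mapMatrix_apply]
      congr 1
      ext r s
      rcases eq_or_ne r s with rfl | h
      · simp
      · simp [Matrix.diagonal_apply_ne _ h, Matrix.scalar_apply]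
    rw [RingHom.map_det, e, ← Matrix.det_transpose, Matrix.transpose_sub, hφ, hy]
    rw [show (Matrix.scalar (Fin 3) x⁻¹)ᵀ = Matrix.scalar (Fin 3) x⁻¹ from Matrix.diagonal_transpose _]
    have e2 : Matrix.scalar (Fin 3) x⁻¹ - N = x⁻¹ • (N * (M - Matrix.scalar (Fin 3) x)) := by
      rw [mul_sub, hNM, smul_sub, Matrix.scalar_apply, Matrix.scalar_apply, ← Matrix.smul_one_eq_diagonal,
        ← Matrix.smul_one_eq_diagonal, mul_smul_comm, mul_one, smul_smul, inv_mul_cancel₀ hx0, one_smul]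
    rw [← hN, e2, Matrix.det_smul, Matrix.det_mul, ← neg_sub (Matrix.scalar (Fin 3) x) M, Matrix.det_neg, hx]
    simp

/-- Elements of the closure fixed by the Frobenius of `F` lie in `F`. -/
theorem mem_range_of_pow_card {K : Type*} [Field K] [Algebra F K] {x : K} (hx : x ^ Fintype.card F = x) :
    ∃ y : F, algebraMap F K y = x := by
  classical
  by_contra hc
  push Not at hc
  set P : K[X] := X ^ Fintype.card F - X
  have hP : P ≠ 0 := FiniteField.X_pow_card_sub_X_ne_zero K Fintype.one_lt_card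
  have hsub : insert x (Finset.univ.image (algebraMap F K)) ⊆ P.roots.toFinset := by
    intro y hy
    rw [Multiset.mem_toFinset, Polynomial.mem_roots hP]
    rcases Finset.mem_insert.1 hy with rfl | hy
    · simp [P, hx]
    · obtain ⟨z, -, rfl⟩ := Finset.mem_image.1 hy
      simp [P, ← map_pow, FiniteField.pow_card]
  have h1 := (Finset.card_le_card hsub).trans (Multiset.toFinset_card_le _)
  rw [Finset.card_insert_of_notMem (by simpa using hc), Finset.card_image_of_injective _ (algebraMap F K).injective,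
    Finset.card_univ] at h1
  have := h1.trans (Polynomial.card_roots' P)
  rw [FiniteField.X_pow_card_sub_X_natDegree_eq K Fintype.one_lt_card] at this
  omega

theorem pow_sub_scalar (g : ↥(Cfsg.SU 3 F q)) (k : ℕ) (z : F) :
    aeval (mat g) (X ^ k - C z : F[X]) = mat g ^ k - Matrix.scalar (Fin 3) z := by
  simp [Matrix.algebraMap_eq_diagonal, Matrix.scalar_apply]

/-- Distinct eigenvalues with a common power give a scalar power. -/
theorem order_dvd_of_distinct (hF : Fintype.card F = q ^ 2) (g : ↥(Cfsg.SU 3 F q)) {a b c : AlgebraicClosure F}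
    (hP : (mat g).charpoly.map (algebraMap F (AlgebraicClosure F)) = (X - C a) * (X - C b) * (X - C c))
    (hab : a ≠ b) (hac : a ≠ c) (hbc : b ≠ c) {k : ℕ} (hk : k ≠ 0) (z : AlgebraicClosure F)
    (hz : z ^ Fintype.card F = z) (ha : a ^ k = z) (hb : b ^ k = z) (hc : c ^ k = z) :
    orderOf (QuotientGroup.mk' (Subgroup.center ↥(Cfsg.SU 3 F q)) g) ∣ k := by
  obtain ⟨w, hw⟩ := mem_range_of_pow_card hz
  have hne : (X ^ k - C z : (AlgebraicClosure F)[X]) ≠ 0 := X_pow_sub_C_ne_zero (Nat.pos_of_ne_zero hk) z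
  have hdvd : (mat g).charpoly ∣ X ^ k - C w := by
    refine (Polynomial.map_dvd_map' (algebraMap F (AlgebraicClosure F))).1 ?_
    rw [hP, Polynomial.map_sub, Polynomial.map_pow, map_X, map_C, hw]
    have := (Multiset.prod_X_sub_C_dvd_iff_le_roots hne {a, b, c}).2 ((Multiset.le_iff_subset (by simp [hab, hac, hbc])).2
      (fun x hx => by
        simp only [Multiset.insert_eq_cons, Multiset.mem_cons, Multiset.mem_singleton] at hx
        rw [Polynomial.mem_roots hne]
        rcases hx with rfl | rfl | rfl <;> simp [*]))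
    simpa [mul_assoc] using this
  have h0 := aeval_eq_zero_of_dvd_aeval_eq_zero hdvd (Matrix.aeval_self_charpoly (mat g))
  rw [pow_sub_scalar, sub_eq_zero] at h0
  rw [orderOf_dvd_iff_pow_eq_one, ← map_pow, mk_eq_one_iff hF]
  exact ⟨w, by rw [mat_pow, h0]⟩

/-- Eigenvalues with a common power give a scalar power after raising to the characteristic. -/
theorem order_dvd_of_any (hF : Fintype.card F = q ^ 2) (p : ℕ) [Fact p.Prime] [CharP F p] (hp : p ≠ 2)
    (g : ↥(Cfsg.SU 3 F q)) {a b c : AlgebraicClosure F}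
    (hP : (mat g).charpoly.map (algebraMap F (AlgebraicClosure F)) = (X - C a) * (X - C b) * (X - C c))
    {k : ℕ} (z : AlgebraicClosure F)
    (hz : z ^ Fintype.card F = z) (ha : a ^ k = z) (hb : b ^ k = z) (hc : c ^ k = z) :
    orderOf (QuotientGroup.mk' (Subgroup.center ↥(Cfsg.SU 3 F q)) g) ∣ p * k := by
  obtain ⟨w, hw⟩ := mem_range_of_pow_card hz
  have hdvd : (mat g).charpoly ∣ (X ^ k - C w) ^ 3 := by
    refine (Polynomial.map_dvd_map' (algebraMap F (AlgebraicClosure F))).1 ?_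
    rw [hP, Polynomial.map_pow, Polynomial.map_sub, Polynomial.map_pow, map_X, map_C, hw, pow_three, ← mul_assoc]
    have h : ∀ x, x ^ k = z → X - C x ∣ (X ^ k - C z : (AlgebraicClosure F)[X]) := fun x hx =>
      dvd_iff_isRoot.2 (by simp [hx])
    exact mul_dvd_mul (mul_dvd_mul (h a ha) (h b hb)) (h c hc)
  have h0 := aeval_eq_zero_of_dvd_aeval_eq_zero hdvd (Matrix.aeval_self_charpoly (mat g))
  rw [map_pow, pow_sub_scalar] at h0
  have h3 : 3 ≤ p := by
    have := (Fact.out : p.Prime).two_le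
    omega
  have h1 := pow_eq_zero_of_le h3 h0
  rw [sub_pow_char_of_commute p (Commute.symm (Matrix.scalar_commute w (fun r => Commute.all w r) _)), sub_eq_zero,
    ← map_pow, ← pow_mul, mul_comm] at h1
  rw [orderOf_dvd_iff_pow_eq_one, ← map_pow, mk_eq_one_iff hF]
  exact ⟨w ^ p, by rw [mat_pow, h1]⟩

section Cases

variable {K : Type*} [Field K]

theorem pow_q_cube {z : K} {d : ℕ} (hd : d ∣ 3) (hd' : d ∣ q + 1) (hz : z ^ d = 1) :
    z ^ 3 = 1 ∧ z ^ (q + 1) = 1 := by
  obtain ⟨r, hr⟩ := hd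
  obtain ⟨s, hs⟩ := hd'
  exact ⟨by rw [hr, pow_mul, hz, one_pow], by rw [hs, pow_mul, hz, one_pow]⟩

theorem pow_card_of_pow_succ {z : K} (hz : z ^ (q + 1) = 1) : z ^ (q ^ 2) = z := by
  have hz0 : z ≠ 0 := fun h => by simp [h] at hz
  have e : z ^ q = z⁻¹ := eq_inv_of_mul_eq_one_left (by rw [← pow_succ, hz])
  rw [pow_two, pow_mul, e, inv_pow, e, inv_inv]

/-- A two-cycle of eigenvalues. -/
theorem two_cycle (hq : 1 ≤ q ^ 2) {a b c : K} {d k : ℕ} (hd : d ∣ 3) (hd' : d ∣ q + 1) (hk : k * d = q ^ 2 - 1)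
    (ha : a * a ^ q = 1) (hb : b * c ^ q = 1) (hc : c * b ^ q = 1) (habc : a * b * c = 1) :
    (b ^ k) ^ (q + 1) = 1 ∧ a ^ k = b ^ k ∧ c ^ k = b ^ k := by
  have hb0 : b ≠ 0 := left_ne_zero_of_mul (hb ▸ one_ne_zero)
  have hbq : b ^ (q ^ 2 - 1) = 1 := by
    have e1 : c = (b ^ q)⁻¹ := eq_inv_of_mul_eq_one_left hc
    rw [e1, inv_pow, ← pow_mul, ← pow_two, mul_inv_eq_one₀ (pow_ne_zero _ hb0)] at hb
    refine mul_left_cancel₀ hb0 ?_
    rw [mul_one, ← pow_succ', Nat.sub_add_cancel hq, ← hb]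
  have hz : (b ^ k) ^ d = 1 := by rw [← pow_mul, hk, hbq]
  obtain ⟨hz3, hz1⟩ := pow_q_cube hd hd' hz
  have hzq : (b ^ k) ^ q = (b ^ k)⁻¹ := eq_inv_of_mul_eq_one_left (by rw [← pow_succ, hz1])
  have hck : c ^ k = b ^ k := by
    have := congrArg (fun x => x ^ k) hc
    simp only [mul_pow, one_pow] at this
    rw [← pow_mul, mul_comm q k, pow_mul, hzq, mul_inv_eq_one₀ (pow_ne_zero _ hb0)] at this
    exact this
  refine ⟨hz1, ?_, hck⟩
  have := congrArg (fun x => x ^ k) habc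
  simp only [mul_pow, one_pow, hck] at this
  rw [pow_three] at hz3
  refine mul_right_cancel₀ (mul_ne_zero (pow_ne_zero k hb0) (pow_ne_zero k hb0)) ?_
  rw [hz3, ← mul_assoc]
  exact this

/-- A three-cycle of eigenvalues. -/
theorem three_cycle {a b c : K} {d k : ℕ} (hd : d ∣ 3) (hd' : d ∣ q + 1) (hk : k * d = q ^ 2 - q + 1)
    (ha : a * b ^ q = 1) (hb : b * c ^ q = 1) (hc : c * a ^ q = 1) (habc : a * b * c = 1) :
    (a ^ k) ^ (q + 1) = 1 ∧ b ^ k = a ^ k ∧ c ^ k = a ^ k := by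
  have ha0 : a ≠ 0 := left_ne_zero_of_mul (ha ▸ one_ne_zero)
  have hc' : c = (a ^ q)⁻¹ := eq_inv_of_mul_eq_one_left hc
  have hb' : b = a ^ q ^ 2 := by
    rw [eq_inv_of_mul_eq_one_left hb, hc', inv_pow, inv_inv, ← pow_mul, pow_two]
  have hord : a ^ (q ^ 2 - q + 1) = 1 := by
    rw [hb', hc', mul_inv_eq_one₀ (pow_ne_zero _ ha0), ← pow_succ'] at habc
    refine mul_right_cancel₀ (pow_ne_zero q ha0) ?_
    have hqq : q ≤ q ^ 2 := Nat.le_self_pow two_ne_zero q
    rw [one_mul, ← pow_add, show q ^ 2 - q + 1 + q = q ^ 2 + 1 by omega, habc]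
  have hz : (a ^ k) ^ d = 1 := by rw [← pow_mul, hk, hord]
  obtain ⟨-, hz1⟩ := pow_q_cube hd hd' hz
  refine ⟨hz1, ?_, ?_⟩
  · rw [hb', ← pow_mul, mul_comm, pow_mul, pow_card_of_pow_succ hz1]
  · rw [hc', inv_pow, ← pow_mul, mul_comm, pow_mul]
    exact inv_eq_of_mul_eq_one_right (by rw [← pow_succ, hz1])

/-- A repeated eigenvalue. -/
theorem repeated {a c : K} {d k : ℕ} (hd : d ∣ 3) (hd' : d ∣ q + 1) (hk : k * d = q + 1)
    (hy : a * a ^ q = 1 ∨ a * c ^ q = 1) (hy' : c * a ^ q = 1 ∨ c * c ^ q = 1) (habc : a * a * c = 1) :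
    (a ^ k) ^ (q + 1) = 1 ∧ c ^ k = a ^ k := by
  have ha0 : a ≠ 0 := left_ne_zero_of_mul (left_ne_zero_of_mul (habc ▸ one_ne_zero))
  have haa : a * a ^ q = 1 := by
    rcases hy with h | h
    · exact h
    rcases hy' with h' | h'
    · have hcq : a * c ^ q = 1 := h
      have hc : c = (a * a)⁻¹ := eq_inv_of_mul_eq_one_right habc
      have h2 : a ^ q = a * a := by
        rw [hc, inv_mul_eq_one₀ (mul_ne_zero ha0 ha0)] at h'
        exact h'.symm
      rw [hc, inv_pow, mul_pow, h2, mul_inv_eq_one₀ (by simp [ha0])] at hcq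
      rw [h2]
      refine mul_left_cancel₀ ha0 ?_
      rw [mul_one]
      linear_combination -hcq
    · have : a = c := mul_right_cancel₀ (pow_ne_zero q (left_ne_zero_of_mul (h' ▸ one_ne_zero))) (h.trans h'.symm)
      rw [this]
      exact h'
  have hq1 : a ^ (q + 1) = 1 := by rw [pow_succ', haa]
  have hz : (a ^ k) ^ d = 1 := by rw [← pow_mul, hk, hq1]
  obtain ⟨hz3, hz1⟩ := pow_q_cube hd hd' hz
  refine ⟨hz1, ?_⟩
  have := congrArg (fun x => x ^ k) habc
  simp only [mul_pow, one_pow] at this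
  rw [pow_three, ← mul_assoc] at hz3
  exact mul_left_cancel₀ (mul_ne_zero (pow_ne_zero k ha0) (pow_ne_zero k ha0)) (this.trans hz3.symm)

end Cases

/-- The upper bound on orders. -/
theorem order_mem (p : ℕ) [Fact p.Prime] [CharP F p] (hp : p ≠ 2) (hF : Fintype.card F = q ^ 2)
    (x : Cfsg.PSU 3 F q) :
    orderOf x ∣ q + 1 ∨ orderOf x ∣ p * (q + 1) / Nat.gcd 3 (q + 1) ∨
      orderOf x ∣ (q ^ 2 - 1) / Nat.gcd 3 (q + 1) ∨ orderOf x ∣ (q ^ 2 - q + 1) / Nat.gcd 3 (q + 1) := by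
  obtain ⟨g, rfl⟩ := QuotientGroup.mk'_surjective (Subgroup.center ↥(Cfsg.SU 3 F q)) x
  obtain ⟨a, b, c, hP, habc, hper⟩ := eigen hF g
  set d := Nat.gcd 3 (q + 1) with hd
  have hd3 : d ∣ 3 := Nat.gcd_dvd_left _ _
  have hdq : d ∣ q + 1 := Nat.gcd_dvd_right _ _
  have hd0 : 0 < d := Nat.gcd_pos_of_pos_left _ (by norm_num)
  have hq2 : 2 ≤ q := by
    by_contra h
    have : q ^ 2 ≤ 1 := Nat.pow_le_one_iff two_ne_zero |>.2 (by omega)
    have := Fintype.one_lt_card (α := F)
    omega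
  have hdm : d ∣ q ^ 2 - 1 := by
    have e : q ^ 2 - 1 = (q + 1) * (q - 1) := by simpa using Nat.sq_sub_sq q 1
    rw [e]; exact dvd_mul_of_dvd_left hdq _
  have hds : d ∣ q ^ 2 - q + 1 := by
    have e : q ^ 2 - q + 1 = (q + 1) * (q - 2) + 3 := by
      obtain ⟨r, rfl⟩ : ∃ r, q = r + 2 := ⟨q - 2, by omega⟩
      rw [Nat.add_sub_cancel]
      have : r + 2 ≤ (r + 2) ^ 2 := Nat.le_self_pow two_ne_zero _
      zify [this]
      ring
    rw [e]; exact dvd_add (dvd_mul_of_dvd_left hdq _) hd3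
  have hzF : ∀ z : AlgebraicClosure F, z ^ (q + 1) = 1 → z ^ Fintype.card F = z := fun z hz => by
    rw [hF]; exact pow_card_of_pow_succ hz
  have hk1 : (q + 1) / d * d = q + 1 := Nat.div_mul_cancel hdq
  have hk2 : (q ^ 2 - 1) / d * d = q ^ 2 - 1 := Nat.div_mul_cancel hdm
  have hk3 : (q ^ 2 - q + 1) / d * d = q ^ 2 - q + 1 := Nat.div_mul_cancel hds
  have hp1 : p * ((q + 1) / d) = p * (q + 1) / d := (Nat.mul_div_assoc p hdq).symm
  by_cases hdist : a ≠ b ∧ a ≠ c ∧ b ≠ c
  · obtain ⟨hab, hac, hbc⟩ := hdist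
    have hinj : ∀ x x' y : AlgebraicClosure F, x * y ^ q = 1 → x' * y ^ q = 1 → x = x' := fun x x' y h h' =>
      mul_right_cancel₀ (right_ne_zero_of_mul (h ▸ one_ne_zero)) (h.trans h'.symm)
    obtain ⟨ya, hya, ea⟩ := hper a (Or.inl rfl)
    obtain ⟨yb, hyb, eb⟩ := hper b (Or.inr (Or.inl rfl))
    obtain ⟨yc, hyc, ec⟩ := hper c (Or.inr (Or.inr rfl))
    have hone : ∀ x : AlgebraicClosure F, x * x ^ q = 1 → x ^ (q + 1) = 1 := fun x h => by rw [pow_succ', h]
    have hk2' : (q ^ 2 - 1) / d ≠ 0 := fun h => by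
      rw [h, zero_mul] at hk2
      have : 2 ^ 2 ≤ q ^ 2 := Nat.pow_le_pow_left hq2 2
      omega
    have hk3' : (q ^ 2 - q + 1) / d ≠ 0 := fun h => by rw [h, zero_mul] at hk3; omega
    rcases hya with rfl | rfl | rfl <;> rcases hyb with rfl | rfl | rfl <;> rcases hyc with rfl | rfl | rfl <;>
      first
        | exact absurd (hinj _ _ _ ea eb) hab
        | exact absurd (hinj _ _ _ ea ec) hac
        | exact absurd (hinj _ _ _ eb ec) hbc
        | exact Or.inl (order_dvd_of_distinct hF g hP hab hac hbc (by omega) 1 (one_pow _) (hone _ ea) (hone _ eb) (hone _ ec))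
        | (obtain ⟨h1, h2, h3⟩ := two_cycle (Nat.one_le_pow _ _ (by omega)) hd3 hdq hk2 ea eb ec habc
           exact Or.inr (Or.inr (Or.inl (order_dvd_of_distinct hF g hP hab hac hbc hk2' _ (hzF _ h1) h2 rfl h3))))
        | (obtain ⟨h1, h2, h3⟩ := two_cycle (Nat.one_le_pow _ _ (by omega)) hd3 hdq hk2 eb ea ec (by linear_combination habc)
           exact Or.inr (Or.inr (Or.inl (order_dvd_of_distinct hF g hP hab hac hbc hk2' _ (hzF _ h1) rfl h2 h3))))
        | (obtain ⟨h1, h2, h3⟩ := two_cycle (Nat.one_le_pow _ _ (by omega)) hd3 hdq hk2 ec ea eb (by linear_combination habc)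
           exact Or.inr (Or.inr (Or.inl (order_dvd_of_distinct hF g hP hab hac hbc hk2' _ (hzF _ h1) rfl h3 h2))))
        | (obtain ⟨h1, h2, h3⟩ := three_cycle hd3 hdq hk3 ea eb ec habc
           exact Or.inr (Or.inr (Or.inr (order_dvd_of_distinct hF g hP hab hac hbc hk3' _ (hzF _ h1) rfl h2 h3))))
        | (obtain ⟨h1, h2, h3⟩ := three_cycle hd3 hdq hk3 ea ec eb (by linear_combination habc)
           exact Or.inr (Or.inr (Or.inr (order_dvd_of_distinct hF g hP hab hac hbc hk3' _ (hzF _ h1) rfl h3 h2))))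
  · refine Or.inr (Or.inl ?_)
    rw [← hp1]
    have main : ∀ u w : AlgebraicClosure F, u * u * w = 1 → (∀ x, (x = u ∨ x = w) → ∃ y, (y = u ∨ y = w) ∧ x * y ^ q = 1) →
        (u ^ ((q + 1) / d)) ^ Fintype.card F = u ^ ((q + 1) / d) ∧ w ^ ((q + 1) / d) = u ^ ((q + 1) / d) := by
      intro u w huw hu
      have h1 : u * u ^ q = 1 ∨ u * w ^ q = 1 := by
        obtain ⟨y, rfl | rfl, e⟩ := hu u (Or.inl rfl) <;> [exact Or.inl e; exact Or.inr e]
      have h2 : w * u ^ q = 1 ∨ w * w ^ q = 1 := by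
        obtain ⟨y, rfl | rfl, e⟩ := hu w (Or.inr rfl) <;> [exact Or.inl e; exact Or.inr e]
      obtain ⟨e1, e2⟩ := repeated hd3 hdq hk1 h1 h2 huw
      exact ⟨hzF _ e1, e2⟩
    by_cases hab : a = b
    · subst hab
      obtain ⟨e1, e2⟩ := main a c habc fun x hx => by
        obtain ⟨y, hy, e⟩ := hper x (by tauto); exact ⟨y, by tauto, e⟩
      exact order_dvd_of_any hF p hp g hP _ e1 rfl rfl e2
    by_cases hac : a = c
    · subst hac
      obtain ⟨e1, e2⟩ := main a b (by linear_combination habc) fun x hx => by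
        obtain ⟨y, hy, e⟩ := hper x (by tauto); exact ⟨y, by tauto, e⟩
      exact order_dvd_of_any hF p hp g hP _ e1 rfl e2 rfl
    have hbc : b = c := by
      by_contra hbc
      exact hdist ⟨hab, hac, hbc⟩
    subst hbc
    obtain ⟨e1, e2⟩ := main b a (by linear_combination habc) fun x hx => by
      obtain ⟨y, hy, e⟩ := hper x (by tauto); exact ⟨y, by tauto, e⟩
    exact order_dvd_of_any hF p hp g hP _ e1 e2 rfl rfl

end Cfsg.Agent.PSUThree
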